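import Cfsg.Agent.Characters.Core
import Cfsg.Agent.PermChar.SymAlt
import Cfsg.Agent.Blocks.Basic
import Cfsg.Prelude.Def_DegreeGraph

/-!
# A degree outside a list from the symmetric and alternating squares (helper934)

* `real_of_perm` : the constituents of a rank 3 permutation character of different degrees are real;
* `exists_deg` : a real irreducible character of degree `21`: the nontrivial irreducible characters do not all satisfy
  `P`, where `P d` : `3 ∣ d` and `21 ≤ d`, or `d = 224`, or `230 < d`.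
-/

set_option autoImplicit false

open scoped ComplexConjugate
open Cfsg

namespace Cfsg.Agent.H934.Eight

open Cfsg.Agent.Characters Cfsg.Agent.Characters.Core

universe u

variable {G : Type u} [Group G] [Finite G]

theorem real_of_perm {χ₁ χ₂ π : G → ℂ} (h₁ : IsIrrCharacter G χ₁) (h₂ : IsIrrCharacter G χ₂)
    (hπ : ∀ x, conj (π x) = π x) (h : ∀ x, π x = 1 + χ₁ x + χ₂ x) (hne : χ₁ 1 ≠ χ₂ 1)
    (hr : conj (χ₁ 1) = χ₁ 1) : ∀ x, conj (χ₂ x) = χ₂ x := by
  classical
  let _ := Fintype.ofFinite G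
  have c₁ := isIrr_conj h₁
  have c₂ := isIrr_conj h₂
  have e1 : (fun x => conj (χ₁ x)) + (fun x => conj (χ₂ x)) = χ₁ + χ₂ := by
    funext x
    have h3 := hπ x
    rw [h x, map_add, map_add, map_one] at h3
    simp only [Pi.add_apply]
    linear_combination h3
  have e2 := congrArg (fun f => classInner f χ₂) e1
  beta_reduce at e2
  rw [classInner_add_left, classInner_add_left, classInner_irr_self h₂,
    classInner_irr_ne h₁ h₂ (fun e => hne (by rw [e])), zero_add] at e2
  have n1 : (fun x => conj (χ₁ x)) ≠ χ₂ := by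
    intro e
    apply hne
    rw [← congrFun e 1, hr]
  rw [classInner_irr_ne c₁ h₂ n1, zero_add] at e2
  have n2 : (fun x => conj (χ₂ x)) = χ₂ := by
    by_contra hne'
    rw [classInner_irr_ne c₂ h₂ hne'] at e2
    exact zero_ne_one e2
  exact fun x => congrFun n2 x

/-- the property of the degrees -/
def PP (d : ℕ) : Prop := (3 ∣ d ∧ (d = 0 ∨ 21 ≤ d)) ∨ d = 224 ∨ 230 < d

theorem PP.add {a b : ℕ} (ha : PP a) (hb : PP b) : PP (a + b) := by
  unfold PP at *
  omega

theorem PP.mul {a : ℕ} (ha : PP a) (n : ℕ) : PP (n * a) := by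
  induction n with
  | zero => left; simp
  | succ n ih => rw [Nat.succ_mul]; exact ih.add ha

/-- the degree of a character without trivial constituents -/
theorem pp_of_character {φ : G → ℂ} [Fintype G] (hφ : IsCharacter G φ) {d n : ℕ} (hd : φ 1 = d)
    (h1 : classInner φ (1 : G → ℂ) = n) (hP : ∀ ψ : IrrCharacter G, (ψ : G → ℂ) ≠ 1 → PP (charDegree (ψ : G → ℂ))) :
    ∃ k, PP k ∧ n + k = d := by
  classical
  have : Finite (IrrCharacter G) := finite_irr
  let _ := Fintype.ofFinite (IrrCharacter G)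
  obtain ⟨m, hm⟩ := isCharacter_iff.1 hφ
  let o : IrrCharacter G := ⟨1, isIrr_one⟩
  have hn : m o = n := by
    have h2 := classInner_sum_nsmul_irr m o
    rw [← hm] at h2
    have h3 : ((m o : ℕ) : ℂ) = n := by rw [← h2]; exact h1
    exact_mod_cast h3
  have hdeg : ∀ ψ : IrrCharacter G, (ψ : G → ℂ) 1 = (charDegree (ψ : G → ℂ) : ℂ) := fun ψ => by
    exact (Blocks.Basic.irr_one_eq_charDegree ψ.2)
  refine ⟨∑ ψ ∈ Finset.univ.erase o, m ψ * charDegree (ψ : G → ℂ), ?_, ?_⟩
  · refine Finset.sum_induction _ PP (fun _ _ => PP.add) (by left; simp) ?_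
    intro ψ hψ
    refine PP.mul (hP ψ fun e => ?_) _
    exact (Finset.mem_erase.1 hψ).1 (Subtype.ext e)
  · have h2 : ((∑ ψ : IrrCharacter G, m ψ * charDegree (ψ : G → ℂ) : ℕ) : ℂ) = d := by
      rw [← hd, hm]
      push_cast
      rw [Finset.sum_apply]
      refine Finset.sum_congr rfl fun ψ _ => ?_
      rw [Pi.smul_apply, hdeg, nsmul_eq_mul]
    have h3 : ∑ ψ : IrrCharacter G, m ψ * charDegree (ψ : G → ℂ) = d := by exact_mod_cast h2
    rw [← h3, ← Finset.add_sum_erase _ _ (Finset.mem_univ o), hn]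
    congr 1
    have h4 : charDegree (o : G → ℂ) = 1 := by
      have h5 := hdeg o
      have h6 : (o : G → ℂ) 1 = 1 := rfl
      rw [h6] at h5
      exact_mod_cast h5.symm
    rw [h4, mul_one]

/-- **a new degree** -/
theorem exists_deg {χ : G → ℂ} (hχ : IsIrrCharacter G χ) (hreal : ∀ x, conj (χ x) = χ x) (h21 : χ 1 = 21) :
    ∃ ψ : IrrCharacter G, (ψ : G → ℂ) ≠ 1 ∧ ¬ PP (charDegree (ψ : G → ℂ)) := by
  classical
  by_contra hcon
  push Not at hcon
  let _ := Fintype.ofFinite G
  have hS := PermChar.SymAlt.isCharacter_symSq (isIrr_isCharacter hχ)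
  have hA := PermChar.SymAlt.isCharacter_altSq (isIrr_isCharacter hχ)
  obtain ⟨a, ha⟩ := classInner_isNat hS (isIrr_isCharacter (isIrr_one (G := G)))
  obtain ⟨b, hb⟩ := classInner_isNat hA (isIrr_isCharacter (isIrr_one (G := G)))
  have hab : a + b = 1 := by
    have h1 : classInner (fun g => (χ g ^ 2 + χ (g * g)) / 2) (1 : G → ℂ) +
        classInner (fun g => (χ g ^ 2 - χ (g * g)) / 2) (1 : G → ℂ) = 1 := by
      rw [← classInner_add_left, ← classInner_irr_self hχ, classInner_def, classInner_def]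
      congr 1
      refine Finset.sum_congr rfl fun g _ => ?_
      rw [hreal g]
      simp only [Pi.add_apply, Pi.one_apply, map_one]
      ring
    rw [ha, hb] at h1
    exact_mod_cast h1
  have dS : (fun g => (χ g ^ 2 + χ (g * g)) / 2) 1 = ((231 : ℕ) : ℂ) := by
    simp only [mul_one, h21]; norm_num
  have dA : (fun g => (χ g ^ 2 - χ (g * g)) / 2) 1 = ((210 : ℕ) : ℂ) := by
    simp only [mul_one, h21]; norm_num
  obtain ⟨k, hk, hk'⟩ := pp_of_character hS dS ha hcon
  obtain ⟨l, hl, hl'⟩ := pp_of_character hA dA hb hcon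
  unfold PP at hk hl
  omega

end Cfsg.Agent.H934.Eight
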