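import Cfsg.Agent.H934.Eight.Big
import Cfsg.Agent.H934.Eight.RealSix
import Cfsg.Agent.H113.Two.PsuSmall

/-!
# At least eight character degrees: `PSU₄(q)` (helper934, for S4899)
-/

set_option autoImplicit false

open scoped ComplexConjugate
open Cfsg

namespace Cfsg.Agent.H934.Eight

open Module Cfsg.Agent.H477.HC Cfsg.Agent.H664.Eight Cfsg.Agent.Characters

universe u v

/-- **`PSU₄(3)`** -/
theorem eight_three {F : Type} [Field F] [Fintype F] (hF : Fintype.card F = 3 ^ 2) : Eight (PSU 4 F 3) := by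
  classical
  have := finite_psu F 4 3
  have hs : IsSimpleGroup (PSU 4 F 3) := S0283.result hF 4 (by norm_num) (by norm_num)
  obtain ⟨p, hp⟩ := CharP.exists F
  have hpr : p.Prime := (CharP.char_is_prime_or_zero F p).resolve_right (CharP.char_ne_zero_of_finite F p)
  have : Fact p.Prime := ⟨hpr⟩
  obtain ⟨n, -, hn⟩ := FiniteField.card F p
  rw [hF] at hn
  have hpq : p ∣ 3 := by
    have h1 : p ∣ 3 ^ 2 := by rw [hn]; exact dvd_pow_self _ n.ne_zero
    exact hpr.dvd_of_dvd_pow h1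
  obtain ⟨K, _, _, hK⟩ := exists_K hF
  obtain ⟨x, y, hxy⟩ := exists_ab K
  have hfK := Fintype.ofFinite K
  have hKF : Fintype.card K = 3 := by rw [← Nat.card_eq_fintype_card, hK]
  obtain ⟨φ⟩ := S0303.result hKF hF x y hxy
  obtain ⟨η, hη, h21, hreal⟩ := real_six K x y hxy hK
  have hη' : IsIrrCharacter (PSU 4 F 3) (η ∘ φ.symm.toMonoidHom) :=
    Core.isIrr_comp φ.symm.toMonoidHom φ.symm.surjective hη
  have h21' : (η ∘ φ.symm.toMonoidHom) 1 = 21 := by
    rw [Function.comp_apply, map_one, h21]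
  obtain ⟨ψ, hψ1, hψ⟩ := exists_deg hη' (fun g => hreal _) h21'
  have m21 : 21 ∈ charDegrees (PSU 4 F 3) :=
    mem_of_ch ⟨_, hη', by rw [h21']; norm_num⟩
  have m90 := H113.Two.PsuSmall.mem90 hF
  have m640 := H113.Two.PsuSmall.mem640 hF
  have m729 : 729 ∈ charDegrees (PSU 4 F 3) := mem_of_ch (ch_st hF le_rfl)
  obtain ⟨ξ, hξ⟩ := H113.PSU.Facts.exG (F := F) hF (le_refl 4)
  have m189 : 189 ∈ charDegrees (PSU 4 F 3) := by
    refine ⟨ξ, ?_⟩
    have e4 : H113.PSU.Levi.uu 3 (4 - 1) = 28 := by decide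
    have e1 : H113.PSU.Levi.uu 3 (4 - 2) = 8 := by decide
    rw [e4, e1] at hξ
    omega
  obtain ⟨e8, t8, k8, c8, d8, i8⟩ := ch_eight hF (p := p)
  have h8 := dvd_eight (q := 3) (by omega) hpr hpq d8 i8
  have h80 : 0 < e8 := by
    obtain ⟨χ, hχ, h1⟩ := c8
    have h2 := Cfsg.Agent.Characters.Core.isIrr_apply_one_ne_zero hχ
    rcases Nat.eq_zero_or_pos e8 with h0 | h0
    · rw [h0, Nat.cast_zero] at h1
      exact absurd h1 h2
    · exact h0
  obtain ⟨c, hc⟩ := h8
  norm_num at hc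
  have hc0 : 0 < c := by
    rcases Nat.eq_zero_or_pos c with h0 | h0
    · rw [h0] at hc; omega
    · exact h0
  have hcard : Nat.card (PSU 4 F 3) = 3265920 := CTwoTab.card_psu_four_three (by rw [hF]; norm_num)
  have hd1 : charDegree (ψ : PSU 4 F 3 → ℂ) ≠ 1 := by
    have h3 := H424.BlockTools.three_le (G := PSU 4 F 3) (by rw [hcard]; norm_num) (by rw [hcard]; norm_num) ψ.2 hψ1
    omega
  have hd0 : charDegree (ψ : PSU 4 F 3 → ℂ) ∈ charDegrees (PSU 4 F 3) := ⟨ψ, rfl⟩
  refine eight_of_list [1, 21, 90, 189, 640, 729, e8, charDegree (ψ : PSU 4 F 3 → ℂ)] ?_ (by simp) ?_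
  · generalize charDegree (ψ : PSU 4 F 3 → ℂ) = d at *
    unfold PP at hψ
    simp only [List.nodup_cons, List.mem_cons, List.not_mem_nil, or_false, not_or, not_false_eq_true, and_true,
      List.nodup_nil]
    omega
  · intro d hd
    simp only [List.mem_cons, List.not_mem_nil, or_false] at hd
    rcases hd with rfl | rfl | rfl | rfl | rfl | rfl | rfl | rfl
    · exact one_mem
    · exact m21
    · exact m90
    · exact m189
    · exact m640
    · exact m729
    · exact mem_of_ch c8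
    · exact hd0

theorem eight_small {F : Type} [Field F] [Fintype F] {q : ℕ} (hF : Fintype.card F = q ^ 2) (hq : 3 ≤ q) :
    Eight (PSU 4 F q) := by
  rcases Nat.eq_or_lt_of_le hq with rfl | h
  · exact eight_three hF
  · exact eight_big hF h

/-- **`PSU₄(q)`, `q ≥ 3`** -/
theorem eight_u4 {F : Type u} [Field F] [Fintype F] {q : ℕ} (hF : Fintype.card F = q ^ 2) (hq : 3 ≤ q) :
    Eight (PSU 4 F q) := by
  classical
  obtain ⟨K, _, _, hK⟩ := exists_K hF
  obtain ⟨x, y, hxy⟩ := exists_ab K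
  have hfK := Fintype.ofFinite K
  have hKF : Fintype.card K = q := by rw [← Nat.card_eq_fintype_card, hK]
  obtain ⟨F', _, _, hF'⟩ : ∃ (F' : Type) (_ : Field F') (_ : Finite F'), Nat.card F' = q ^ 2 := by
    obtain ⟨p, hp⟩ := CharP.exists F
    have hpr : p.Prime := (CharP.char_is_prime_or_zero F p).resolve_right (CharP.char_ne_zero_of_finite F p)
    have : Fact p.Prime := ⟨hpr⟩
    obtain ⟨n, -, hn⟩ := FiniteField.card F p
    exact ⟨GaloisField p n, inferInstance, inferInstance, by rw [GaloisField.card p n n.ne_zero, ← hn, hF]⟩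
  have hfF := Fintype.ofFinite F'
  have hFF : Fintype.card F' = q ^ 2 := by rw [← Nat.card_eq_fintype_card, hF']
  obtain ⟨φ⟩ := S0303.result hKF hF x y hxy
  obtain ⟨φ'⟩ := S0303.result hKF hFF x y hxy
  exact (eight_small hFF hq).of_equiv (φ.symm.trans φ')

end Cfsg.Agent.H934.Eight
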