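import Cfsg.Agent.H471.Eight.CertCo3
import Cfsg.Agent.H555.TwoSp.CoThreeFacts
import Cfsg.Agent.H769.PB.CoThreeRank5

/-!
# `Co3` has at least eight character degrees (helper934, for S4899)
-/

set_option autoImplicit false

namespace Cfsg.Agent.H934.Eight.Co3

open Cfsg Cfsg.Agent.Characters.Core Cfsg.Agent.H664.Eight

universe u

theorem cent_zpowers {G : Type*} [Group G] (x : G) :
    Subgroup.centralizer ((Subgroup.zpowers x : Subgroup G) : Set G) = Subgroup.centralizer ({x} : Set G) := by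
  rw [Subgroup.zpowers_eq_closure, Subgroup.centralizer_closure]

theorem eight_co3' : Eight Spor.Co3 := by
  have hI : Spor.IsoCo3 Spor.Co3 := ⟨MulEquiv.refl _⟩
  obtain ⟨hs, hcard⟩ := Cfsg.Agent.OddHalf.D8.RowCo3.card_of hI
  have hfin : Finite Spor.Co3 := Nat.finite_of_card_ne_zero (by rw [hcard]; norm_num)
  have ex : ∀ p : ℕ, p.Prime → p ∣ 495766656000 → ∃ x : Spor.Co3, orderOf x = p := by
    intro p hp hd
    have := Fact.mk hp
    exact exists_prime_orderOf_dvd_card' (G := Spor.Co3) p (by rw [hcard]; exact hd)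
  refine Cfsg.Agent.H471.Eight.CertCo3.eight hcard ?_ ?_
  · intro pk hpk
    simp only [List.mem_cons, List.not_mem_nil, or_false] at hpk
    rcases hpk with rfl | rfl
    · obtain ⟨x, hx⟩ := ex 23 (by norm_num) (by norm_num)
      refine ⟨x, hx, ?_⟩
      have h := Cfsg.Agent.H555.TwoSp.c23 hI (Subgroup.zpowers x) (by rw [Nat.card_zpowers, hx])
      rw [cent_zpowers] at h
      exact h.trans (by norm_num)
    · obtain ⟨x, hx⟩ := ex 11 (by norm_num) (by norm_num)
      refine ⟨x, hx, ?_⟩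
      have h := Cfsg.Agent.H555.TwoSp.c11 hI (Subgroup.zpowers x) (by rw [Nat.card_zpowers, hx])
      rw [cent_zpowers] at h
      exact h.trans (by norm_num)
  · intro d hd
    simp only [List.mem_cons, List.not_mem_nil, or_false] at hd
    rcases hd with rfl | rfl | rfl | rfl
    · obtain ⟨χ, hχ⟩ := Cfsg.Agent.H843.IMC.Co3A.hasDeg_23
      exact ⟨χ, hχ⟩
    · obtain ⟨χ, hχ⟩ := Cfsg.Agent.H843.IMC.Co3A.hasDeg_275
      exact ⟨χ, hχ⟩
    · obtain ⟨⟨χ, hχ, -⟩, -⟩ := Cfsg.Agent.H769.PB.CoThreeRank5.exists_chars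
      exact ⟨χ, hχ⟩
    · obtain ⟨-, χ, hχ, -⟩ := Cfsg.Agent.H769.PB.CoThreeRank5.exists_chars
      exact ⟨χ, hχ⟩

/-- **`Co3`.** -/
theorem eight_co3 {S : Type u} [Group S] (h : Spor.IsoCo3 S) : Eight S := by
  obtain ⟨e⟩ := h
  exact eight_co3'.of_equiv e

end Cfsg.Agent.H934.Eight.Co3
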