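import Cfsg.Agent.H477.HC.Rk3Chars

/-!
# The rank 3 characters of `PΩ⁻₆(q)` on the singular points (helper934)

`rk3_six` : irreducible characters of the degrees `q² (q² + 1)` and `q (q² - q + 1)`.
-/

set_option autoImplicit false

open scoped ComplexConjugate
open Cfsg

namespace Cfsg.Agent.H934.Eight

open Module Cfsg.Agent.H53.HC Cfsg.Agent.H690.Spor.RankThree Cfsg.Agent.H690.Spor.RankThree.R3
open Cfsg.Agent.Characters Cfsg.Agent.H477.HC Cfsg.Agent.H477.HC.CForm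

universe u v w

section universal

variable {K : Type u} [Field K] [Finite K]

/-- an anisotropic binary form over a finite field is universal -/
theorem exists_norm {a b : K} (hab : ∀ z₁ z₂ : K, z₁ ^ 2 + a * z₁ * z₂ + b * z₂ ^ 2 = 0 → z₁ = 0 ∧ z₂ = 0) (t : K) :
    ∃ z₁ z₂ : K, z₁ ^ 2 + a * z₁ * z₂ + b * z₂ ^ 2 = t := by
  obtain ⟨x, hx0, hx⟩ := Cfsg.Agent.LieClassical.OrthFinite.exists_ternary_zero (F := K) 1 b (-t) a 0 0
  have h2 : x 2 ≠ 0 := by
    intro h2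
    rw [h2] at hx
    obtain ⟨h0, h1⟩ := hab (x 0) (x 1) (by linear_combination hx)
    apply hx0
    funext i
    fin_cases i
    · exact h0
    · exact h1
    · exact h2
  refine ⟨x 0 / x 2, x 1 / x 2, ?_⟩
  field_simp
  linear_combination hx

end universal

section perp

variable {K : Type u} [Field K] {V : Type v} [AddCommGroup V] [Module K V]
variable {F : CForm K V} {X : Type w} [AddCommGroup X] [Module K X] {F' : CForm K X}

/-- vectors of given norm perpendicular to two points, rank two -/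
theorem exists_perp_norm' [FiniteDimensional K V] {e f : Fin 2 → V} {j : X →ₗ[K] V} (h : Frm F F' e f j)
    (x y : F.Pt) (t : K) (ht : ∃ u, F'.Q u = t) :
    ∃ v, F.Q v = t ∧ (∀ w ∈ x.1, F.B v w = 0) ∧ ∀ w ∈ y.1, F.B v w = 0 := by
  have hs : ∀ i, F.Sing (e i) := fun i => ⟨h.hQe i, h.hee i i⟩
  have hsf : ∀ i, F.Sing (f i) := fun i => ⟨h.hQf i, h.hff i i⟩
  have he0 : ∀ i, e i ≠ 0 := by
    intro i h0
    have := h.hef i i
    rw [h0, F.B_zero_left, if_pos rfl] at this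
    exact zero_ne_one this
  have hf0 : ∀ i, f i ≠ 0 := by
    intro i h0
    have := h.hef i i
    rw [h0, F.B_zero_right, if_pos rfl] at this
    exact zero_ne_one this
  obtain ⟨u, hu⟩ := ht
  obtain ⟨z, hz⟩ : ∃ z, z = j u := ⟨_, rfl⟩
  have hQz : F.Q z = t := by rw [hz, h.hjQ, hu]
  have hze : ∀ i, F.B z (e i) = 0 := by
    intro i
    rw [hz, h.hje]
  have hzf : ∀ i, F.B z (f i) = 0 := by
    intro i
    rw [hz, h.hjf]
  -- transport
  have key : ∀ (g : F.iso) (a b : V) (ha0 : a ≠ 0) (ha : F.Sing a) (hb0 : b ≠ 0) (hb : F.Sing b),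
      g • F.pt a ha0 ha = x → g • F.pt b hb0 hb = y → F.B z a = 0 → F.B z b = 0 →
      ∃ v, F.Q v = t ∧ (∀ w ∈ x.1, F.B v w = 0) ∧ ∀ w ∈ y.1, F.B v w = 0 := by
    intro g a b ha0 ha hb0 hb hx hy hza hzb
    refine ⟨(g : V ≃ₗ[K] V) z, by rw [F.iso_Q, hQz], fun w hw => ?_, fun w hw => ?_⟩
    · rw [← hx, F.smul_pt] at hw
      obtain ⟨c, rfl⟩ := Submodule.mem_span_singleton.1 hw
      rw [F.B_smul_right, F.iso_B, hza, mul_zero]
    · rw [← hy, F.smul_pt] at hw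
      obtain ⟨c, rfl⟩ := Submodule.mem_span_singleton.1 hw
      rw [F.B_smul_right, F.iso_B, hzb, mul_zero]
  by_cases hp : F.Perp x y
  · by_cases hxy : x = y
    · obtain ⟨g, hg⟩ := F.trans_Om (F.pt (e 0) (he0 0) (hs 0)).2 x.2
      exact key g (e 0) (e 0) (he0 0) (hs 0) (he0 0) (hs 0) (Subtype.ext hg) ((Subtype.ext hg).trans hxy)
        (hze 0) (hze 0)
    · have h01 : F.Rel (F.pt (e 0) (he0 0) (hs 0)) (F.pt (e 1) (he0 1) (hs 1)) := by
        refine ⟨fun h1 => ?_, F.perp_pt.2 (h.hee 0 1)⟩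
        obtain ⟨c, hc, hc'⟩ := F.pt_eq_iff.1 h1
        have h2 := h.hef 0 0
        rw [hc', F.B_smul_left, h.hef, if_neg (by decide), if_pos rfl, mul_zero] at h2
        exact zero_ne_one h2
      obtain ⟨g, hg1, hg2⟩ := F.trans_rel h01 ⟨hxy, hp⟩
      exact key g (e 0) (e 1) (he0 0) (hs 0) (he0 1) (hs 1) hg1 hg2 (hze 0) (hze 1)
  · have h01 : ¬ F.Perp (F.pt (e 0) (he0 0) (hs 0)) (F.pt (f 0) (hf0 0) (hsf 0)) := by
      rw [F.perp_pt, h.hef, if_pos rfl]
      exact one_ne_zero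
    obtain ⟨g, hg1, hg2⟩ := F.trans_opp h01 hp
    exact key g (e 0) (f 0) (he0 0) (hs 0) (hf0 0) (hsf 0) hg1 hg2 (hze 0) (hzf 0)

open LieClassical LieClassical.OrthCore LieClassical.OrthTrans

/-- `F.iso = Ω · Stab(x, y)` -/
theorem om_stab' [FiniteDimensional K V] {Q : QuadraticForm K V} (hG : Good Q) (hQ : ∀ v, Q v = F.Q v)
    (hB : ∀ u v, F.B u v = F.Q (u + v) - F.Q u - F.Q v)
    (hP : ∀ (x y : F.Pt) (t : K), ∃ v, F.Q v = t ∧ (∀ w ∈ x.1, F.B v w = 0) ∧ ∀ w ∈ y.1, F.B v w = 0)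
    (g : F.iso) (x y : F.Pt) : ∃ k ∈ commutator F.iso, k • x = g • x ∧ k • y = g • y := by
  have hpol : ∀ u v, QuadraticMap.polar Q u v = F.B u v := fun u v => by
    rw [hB, QuadraticMap.polar, hQ, hQ, hQ]
  have hO : O Q = F.iso := by
    ext k
    constructor
    · intro hk
      have hk' : ∀ v, F.Q (k v) = F.Q v := fun v => by rw [← hQ, ← hQ]; exact hk v
      exact ⟨fun u v => by rw [hB, hB, ← map_add, hk', hk', hk'], hk'⟩
    · intro hk v
      rw [hQ, hQ]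
      exact hk.2 v
  have hS : ∀ t : K, ∃ v, Q v = t ∧ ∀ w ∈ x.1 ⊔ y.1, QuadraticMap.polar Q v w = 0 := by
    intro t
    obtain ⟨v, h1, h2, h3⟩ := hP x y t
    refine ⟨v, by rw [hQ, h1], fun w hw => ?_⟩
    obtain ⟨a, ha, b, hb, rfl⟩ := Submodule.mem_sup.1 hw
    rw [hpol, F.B_add_right, h2 a ha, h3 b hb, add_zero]
  obtain ⟨s, hs, hs1, hs2⟩ := exists_correct hG hS (g := (g : V ≃ₗ[K] V)) (by rw [hO]; exact g.2)
  rw [hO] at hs
  rw [← hG.commutator_eq_E, hO] at hs2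
  have h1 : (commutator F.iso).map F.iso.subtype = ⁅F.iso, F.iso⁆ := by
    rw [commutator_def, Subgroup.map_commutator, ← MonoidHom.range_eq_map, Subgroup.range_subtype]
  rw [← h1] at hs2
  obtain ⟨k, hk, hk'⟩ := hs2
  have hk'' : k = g * ⟨s, hs⟩ := Subtype.ext hk'
  have hfix : ∀ z : F.Pt, z.1 ≤ x.1 ⊔ y.1 → (⟨s, hs⟩ : F.iso) • z = z := by
    intro z hz
    apply Subtype.ext
    rw [F.smul_val]
    apply le_antisymm
    · rintro _ ⟨w, hw, rfl⟩
      change s w ∈ z.1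
      rw [hs1 w (hz hw)]
      exact hw
    · intro w hw
      exact ⟨w, hw, hs1 w (hz hw)⟩
  refine ⟨k, hk, ?_, ?_⟩
  · rw [hk'', mul_smul, hfix x le_sup_left]
  · rw [hk'', mul_smul, hfix y le_sup_right]

end perp

section six

variable (K : Type u) [Field K] [Finite K]

theorem minusF_zero_Q {a b : K} (hab : ∀ z₁ z₂ : K, z₁ ^ 2 + a * z₁ * z₂ + b * z₂ ^ 2 = 0 → z₁ = 0 ∧ z₂ = 0)
    (z₁ z₂ : K) : (CForm.minusF K 0 a b hab).Q (Sum.elim 0 ![z₁, z₂]) = z₁ ^ 2 + a * z₁ * z₂ + b * z₂ ^ 2 := by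
  rw [CForm.minusF_Q]
  simp [quadFormMinus]

/-- **`PΩ⁻_6(q)`** -/
theorem rk3_six (a b : K) (hab : ∀ z₁ z₂ : K, z₁ ^ 2 + a * z₁ * z₂ + b * z₂ ^ 2 = 0 → z₁ = 0 ∧ z₂ = 0) :
    ∃ s t : ℕ, Ch (POmega K (quadFormMinus 2 K a b)) s ∧ Ch (POmega K (quadFormMinus 2 K a b)) t ∧
    ((Nat.card K : ℤ) ^ 2 - 1) * s = Nat.card K ^ 2 * ((Nat.card K : ℤ) ^ 4 - 1) ∧
    ((Nat.card K : ℤ) ^ 2 - 1) * t = Nat.card K * (Nat.card K ^ 3 + 1) * ((Nat.card K : ℤ) - 1) := by
  classical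
  have hfin := Fintype.ofFinite K
  have hq : 2 ≤ Nat.card K := Finite.one_lt_card
  obtain ⟨e, f, j, h⟩ := CForm.frm_minus (K := K) hab (show 1 + 1 = 2 by omega)
  obtain ⟨e2, f2, j2, h2⟩ := CForm.frm_minus (K := K) hab (show 2 + 0 = 2 by omega)
  have hc : Fintype.card K = Nat.card K := Nat.card_eq_fintype_card.symm
  have hG : LieClassical.OrthTrans.Good (LieClassical.OrthForms.minusForm 2 K a b) := by
    apply LieClassical.OrthFinite.good_of_finite (LieClassical.OrthForms.nondeg_minusForm 2 K a b hab)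
    rw [Module.finrank_fintype_fun_eq_card, Fintype.card_sum, Fintype.card_sum, Fintype.card_fin]
    omega
  have hstab := om_stab' (F := CForm.minusF K 2 a b hab) hG
    (fun v => congrFun (LieClassical.OrthForms.coe_minusForm 2 K a b) v) (minus_hB K 2 a b hab)
    (fun x y t => exists_perp_norm' h2 x y t (by
      obtain ⟨z₁, z₂, hz⟩ := exists_norm hab t
      exact ⟨_, (minusF_zero_Q K hab z₁ z₂).trans hz⟩))
  obtain ⟨χ₁, χ₂, s, t, c1, c2, c3, c4, c5⟩ := CForm.exists_chars_of h.hyp (P := Nat.card K ^ 1)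
    (P' := Nat.card K ^ 2) (by rw [pow_one]; exact hq) (Nat.one_le_pow _ _ (by omega))
    (by
      rw [card_Sing_quad, ← num_minus hq 1]
      exact S0290.result hc 2 (by omega) a b hab)
    (by
      rw [card_Sing_quad, ← pow_succ', ← pow_succ', ← num_minus hq 2]
      exact S0290.result hc 3 (by omega) a b hab)
    (commutator _) hstab
  refine ⟨s, t, ch_of_comm (CForm.minusF K 2 a b hab) (minus_hB K 2 a b hab) (fun z hz => ?_) χ₁ c1
    (fun x hx => (c5 x hx).1),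
    ch_of_comm (CForm.minusF K 2 a b hab) (minus_hB K 2 a b hab) (fun z hz => ?_) χ₂ c2
    (fun x hx => (c5 x hx).2), ?_, ?_⟩
  · obtain ⟨c, -, hc⟩ := scal_of (cen_minus K (by omega) a b hab z hz)
    exact ⟨c, hc⟩
  · obtain ⟨c, -, hc⟩ := scal_of (cen_minus K (by omega) a b hab z hz)
    exact ⟨c, hc⟩
  · have hz : (Nat.card K : ℤ) ≠ 0 := by exact_mod_cast (by omega : Nat.card K ≠ 0)
    apply mul_left_cancel₀ hz
    push_cast at c3
    linear_combination c3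
  · have hz : (Nat.card K : ℤ) ≠ 0 := by exact_mod_cast (by omega : Nat.card K ≠ 0)
    apply mul_left_cancel₀ hz
    push_cast at c4
    linear_combination c4

end six

end Cfsg.Agent.H934.Eight
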